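import Groth.Agent.PurelyInsepRed.Basic
import Mathlib.RingTheory.EssentialFiniteness

/-!
One finite purely inseparable extension making finitely many finitely generated fields separable.
-/

universe u

namespace Groth.Agent.GeomRedAt

open TensorProduct

variable {k : Type u} [Field k]

set_option synthInstance.maxHeartbeats 400000 in
/-- The reduction becomes geometrically reduced after a finite purely inseparable extension, for a
Noetherian perfect base change. -/
theorem exists_geomReduced_of_isNoetherian (A : Type u) [CommRing A] [Algebra k A]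
    [IsNoetherianRing (perfectClosure k (AlgebraicClosure k) ⊗[k] A)] :
    ∃ (k' : Type u) (_ : Field k') (_ : Algebra k k'), FiniteDimensional k k' ∧
      IsPurelyInseparable k k' ∧
      Algebra.IsGeometricallyReduced k' ((k' ⊗[k] A) ⧸ nilradical (k' ⊗[k] A)) := by
  classical
  let K := perfectClosure k (AlgebraicClosure k)
  have : PerfectField K := perfectClosure.perfectField k (AlgebraicClosure k)
  obtain ⟨G, hG⟩ := (IsNoetherian.noetherian (nilradical (K ⊗[k] A)) : (nilradical (K ⊗[k] A)).FG)
  have hx : ∀ x : K ⊗[k] A, ∃ T : Finset K, ∀ F : IntermediateField k K, (T : Set K) ⊆ F →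
      x ∈ Set.range (Algebra.TensorProduct.map (Algebra.ofId F K) (AlgHom.id k A)) := by
    intro x
    induction x using TensorProduct.induction_on with
    | zero => exact ⟨∅, fun F _ => ⟨0, map_zero _⟩⟩
    | tmul c a => exact ⟨{c}, fun F hF => ⟨(⟨c, hF (by simp)⟩ : F) ⊗ₜ a, rfl⟩⟩
    | add a b ha hb =>
      obtain ⟨T, hT⟩ := ha
      obtain ⟨T', hT'⟩ := hb
      refine ⟨T ∪ T', fun F hF => ?_⟩
      obtain ⟨a', ha'⟩ := hT F ((Finset.coe_subset.mpr Finset.subset_union_left).trans hF)
      obtain ⟨b', hb'⟩ := hT' F ((Finset.coe_subset.mpr Finset.subset_union_right).trans hF)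
      exact ⟨a' + b', by rw [map_add, ha', hb']⟩
  choose T hT using hx
  let F := IntermediateField.adjoin k (G.biUnion T : Set K)
  have : FiniteDimensional k F :=
    IntermediateField.finiteDimensional_adjoin fun x _ => Algebra.IsIntegral.isIntegral x
  have hF : IsPurelyInseparable k F := IsPurelyInseparable.tower_bot k F K
  refine ⟨F, inferInstance, inferInstance, inferInstance, hF, ?_⟩
  let ι := Algebra.TensorProduct.map (Algebra.ofId F K) (AlgHom.id k A)
  have hι : Function.Injective ι :=
    Module.Flat.rTensor_preserves_injective_linearMap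
      (IsScalarTower.toAlgHom k F K).toLinearMap (algebraMap F K).injective
  have : Algebra.IsAlgebraic F K := Algebra.IsAlgebraic.tower_top (K := k) F
  refine PurelyInsepRed.isGeometricallyReduced_quotient (K := K) ?_
  rw [← hG, Ideal.span_le]
  intro x hx
  obtain ⟨y, hy⟩ := hT x F ((Finset.coe_subset.mpr (Finset.subset_biUnion_of_mem T hx)).trans
    (IntermediateField.subset_adjoin k _))
  rw [← hy]
  refine Ideal.mem_map_of_mem _ (mem_nilradical.mpr ?_)
  have hxn : IsNilpotent x := mem_nilradical.mp (hG ▸ Submodule.subset_span hx)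
  exact (IsNilpotent.map_iff hι).mp (hy ▸ hxn)

/-- An injective additive multiplicative map reflects reducedness. -/
theorem isReduced_of_mul_injective {R S : Type*} [CommRing R] [CommRing S] [IsReduced S] (f : R →+ S)
    (hf : Function.Injective f) (hmul : ∀ a b, f (a * b) = f a * f b) : IsReduced R := by
  refine ⟨fun x ⟨n, hn⟩ => hf ?_⟩
  have h : ∀ m : ℕ, f (x ^ (m + 1)) = f x ^ (m + 1) := fun m => by
    induction m with
    | zero => simp
    | succ m ih => rw [pow_succ, hmul, ih, ← pow_succ]
  rw [map_zero]
  refine IsNilpotent.eq_zero ⟨n + 1, ?_⟩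
  rw [← h, pow_succ, hn, zero_mul, map_zero]

/-- An injective linear multiplicative map reflects geometric reducedness. -/
theorem isGeometricallyReduced_of_mul_injective {k' B C : Type u} [Field k'] [CommRing B] [CommRing C]
    [Algebra k' B] [Algebra k' C] [Algebra.IsGeometricallyReduced k' C] (s : B →ₗ[k'] C)
    (hs : Function.Injective s) (hmul : ∀ a b, s (a * b) = s a * s b) :
    Algebra.IsGeometricallyReduced k' B := by
  rw [Algebra.isGeometricallyReduced_field_iff]
  have hred : IsReduced (AlgebraicClosure k' ⊗[k'] C) :=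
    (Algebra.isGeometricallyReduced_field_iff k' C).1 ‹_›
  have hinj : Function.Injective (s.baseChange (AlgebraicClosure k')) :=
    Module.Flat.lTensor_preserves_injective_linearMap (M := AlgebraicClosure k') s hs
  refine isReduced_of_mul_injective (s.baseChange (AlgebraicClosure k')).toAddMonoidHom hinj fun a b => ?_
  show s.baseChange _ (a * b) = s.baseChange _ a * s.baseChange _ b
  induction a using TensorProduct.induction_on with
  | zero => simp
  | tmul c a =>
    induction b using TensorProduct.induction_on with
    | zero => simp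
    | tmul d b => simp [hmul]
    | add z w hz hw => simp only [mul_add, map_add, hz, hw]
  | add y w hy hw => simp only [add_mul, map_add, hy, hw]

set_option synthInstance.maxHeartbeats 400000 in
/-- One purely inseparable extension works for a finite family of finitely generated fields. -/
theorem exists_geomReduced_family {ι : Type u} [Finite ι] (K : ι → Type u) [∀ i, Field (K i)]
    [∀ i, Algebra k (K i)] [∀ i, Algebra.EssFiniteType k (K i)] :
    ∃ (k' : Type u) (_ : Field k') (_ : Algebra k k'), FiniteDimensional k k' ∧
      IsPurelyInseparable k k' ∧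
      ∀ i, Algebra.IsGeometricallyReduced k' ((k' ⊗[k] K i) ⧸ nilradical (k' ⊗[k] K i)) := by
  classical
  have := Fintype.ofFinite ι
  let P := perfectClosure k (AlgebraicClosure k)
  have hn : ∀ i, IsNoetherianRing (P ⊗[k] K i) := fun i => Algebra.EssFiniteType.isNoetherianRing P (P ⊗[k] K i)
  have : IsNoetherianRing (P ⊗[k] (∀ i, K i)) :=
    isNoetherianRing_of_ringEquiv _ (Algebra.TensorProduct.piRight k P P K).toRingEquiv.symm
  obtain ⟨k', _, _, hfin, hpi, hred⟩ := exists_geomReduced_of_isNoetherian (k := k) (∀ i, K i)
  refine ⟨k', inferInstance, inferInstance, hfin, hpi, fun i => ?_⟩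
  let π : (k' ⊗[k] ∀ i, K i) →ₐ[k'] k' ⊗[k] K i :=
    Algebra.TensorProduct.map (AlgHom.id k' k') (Pi.evalAlgHom k K i)
  let s : k' ⊗[k] K i →ₗ[k'] k' ⊗[k] (∀ i, K i) := (LinearMap.single k K i).baseChange k'
  have hs : ∀ y, π (s y) = y := fun y => by
    induction y using TensorProduct.induction_on with
    | zero => simp
    | tmul c a => simp [π, s]
    | add y z hy hz => rw [map_add, map_add, hy, hz]
  have hsmul : ∀ y z, s (y * z) = s y * s z := fun y z => by
    induction y using TensorProduct.induction_on with
    | zero => simp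
    | tmul c a =>
      induction z using TensorProduct.induction_on with
      | zero => simp
      | tmul d b => simp [s, Pi.single_mul]
      | add z w hz hw => simp only [mul_add, map_add, hz, hw]
    | add y w hy hw => simp only [add_mul, map_add, hy, hw]
  have hsnil : ∀ y ∈ nilradical (k' ⊗[k] K i), s y ∈ nilradical (k' ⊗[k] ∀ i, K i) :=
    fun y hy => by
      obtain ⟨n, hn⟩ := mem_nilradical.1 hy
      refine mem_nilradical.2 ⟨n + 1, ?_⟩
      have h : ∀ m : ℕ, s (y ^ (m + 1)) = s y ^ (m + 1) := fun m => by
        induction m with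
        | zero => simp
        | succ m ih => rw [pow_succ, hsmul, ih, ← pow_succ]
      rw [← h, pow_succ, hn, zero_mul, map_zero]
  let s' : (k' ⊗[k] K i) ⧸ nilradical (k' ⊗[k] K i) →ₗ[k'] (k' ⊗[k] ∀ i, K i) ⧸ nilradical (k' ⊗[k] ∀ i, K i) :=
    { toFun := Quotient.map' s fun a b h => by
        rw [Submodule.quotientRel_def] at h ⊢
        rw [← map_sub]; exact hsnil _ h
      map_add' := by rintro ⟨a⟩ ⟨b⟩; exact congrArg (Ideal.Quotient.mk _) (map_add s a b)
      map_smul' := by rintro c ⟨a⟩; exact congrArg (Ideal.Quotient.mk _) (map_smul s c a) }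
  have hs'inj : Function.Injective s' := by
    refine (injective_iff_map_eq_zero s').2 ?_
    rintro ⟨a⟩ ha
    refine Ideal.Quotient.eq_zero_iff_mem.2 ?_
    have ha' : s a ∈ nilradical (k' ⊗[k] ∀ i, K i) := Ideal.Quotient.eq_zero_iff_mem.1 ha
    rw [← hs a]
    exact mem_nilradical.2 ((mem_nilradical.1 ha').map π)
  have hs'mul : ∀ a b, s' (a * b) = s' a * s' b := by
    rintro ⟨a⟩ ⟨b⟩; exact congrArg (Ideal.Quotient.mk _) (hsmul a b)
  refine isGeometricallyReduced_of_mul_injective (C := (k' ⊗[k] ∀ i, K i) ⧸ nilradical (k' ⊗[k] ∀ i, K i))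
    { toFun := s', map_add' := s'.map_add, map_smul' := s'.map_smul } hs'inj hs'mul

/-- Over a purely inseparable extension the nilradical of a field's base change is maximal. -/
theorem isMaximal_nilradical (k' K : Type u) [Field k'] [Algebra k k'] [IsPurelyInseparable k k'] [Field K]
    [Algebra k K] : (nilradical (k' ⊗[k] K)).IsMaximal := by
  have := PurelyInsepRed.isPrime_nilradical (k := k) k' K
  letI : Algebra K (k' ⊗[k] K) := Algebra.TensorProduct.rightAlgebra
  have : Algebra.IsAlgebraic k k' := inferInstance
  have : Algebra.IsIntegral k k' := Algebra.IsAlgebraic.isIntegral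
  have : Algebra.IsIntegral K (K ⊗[k] k') := inferInstance
  let g : K ⊗[k] k' →ₐ[K] k' ⊗[k] K :=
    { (Algebra.TensorProduct.comm k K k').toRingEquiv.toRingHom with
      commutes' := fun c => by simp [Algebra.TensorProduct.algebraMap_apply, RingHom.algebraMap_toAlgebra] }
  have : Algebra.IsIntegral K (k' ⊗[k] K) :=
    Algebra.IsIntegral.of_surjective g (Algebra.TensorProduct.comm k K k').surjective
  refine Ideal.isMaximal_of_isIntegral_of_isMaximal_comap (R := K) _ ?_
  have : (nilradical (k' ⊗[k] K)).comap (algebraMap K (k' ⊗[k] K)) = ⊥ :=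
    ((Ideal.eq_bot_or_top _).resolve_right (Ideal.IsPrime.ne_top inferInstance))
  rw [this]
  exact Ideal.bot_isMaximal

end Groth.Agent.GeomRedAt
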