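import Groth.Agent.GeomRedAt.Change
import Groth.Agent.GeomRedAt.InsepFields
import Mathlib

/-!
The reduction of a base change becomes geometrically reduced after a finite purely inseparable extension.
-/

universe u

open AlgebraicGeometry CategoryTheory Limits TensorProduct

namespace Groth.Agent.GeomRedAt

theorem isReduced_nilradical_subscheme (Y : Scheme.{u}) : AlgebraicGeometry.IsReduced Y.nilradical.subscheme := by
  have : ∀ U : Y.affineOpens, AlgebraicGeometry.IsReduced (Spec (CommRingCat.of (Γ(Y, U) ⧸ Y.nilradical.ideal U))) := fun U => by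
    have h : _root_.IsReduced (Γ(Y, U) ⧸ Y.nilradical.ideal U) :=
      (Ideal.isRadical_iff_quotient_reduced _).1 (by
        rw [Scheme.nilradical, Scheme.IdealSheafData.radical_ideal]
        exact Ideal.radical_isRadical _)
    exact (affine_isReduced_iff _).2 h
  exact @IsReduced.of_openCover _ Y.nilradical.subschemeCover.openCover this

theorem nilradical_le_ker {Y W : Scheme.{u}} (g : W ⟶ Y) [AlgebraicGeometry.IsReduced W] : Y.nilradical ≤ g.ker := by
  rw [Scheme.Hom.ker, Scheme.IdealSheafData.le_ofIdeals_iff]
  intro U x hx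
  rw [Scheme.nilradical, Scheme.IdealSheafData.radical_ideal, Scheme.IdealSheafData.ideal_bot, Pi.bot_apply] at hx
  obtain ⟨n, hn⟩ := hx
  refine RingHom.mem_ker.2 (IsNilpotent.eq_zero ⟨n, ?_⟩)
  rw [← map_pow, Ideal.mem_bot.1 hn, map_zero]

variable {k : Type u} [Field k]

theorem essFiniteType_residueField {X : Scheme.{u}} (f : X ⟶ Spec (CommRingCat.of k)) [LocallyOfFiniteType f]
    (x : X) (φ : CommRingCat.of k ⟶ X.residueField x) (hφ : X.fromSpecResidueField x ≫ f = Spec.map φ) :
    φ.hom.EssFiniteType := by
  have hψ : φ = StructureSheaf.toStalk (CommRingCat.of k) (f x) ≫ f.stalkMap x ≫ X.residue x := by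
    refine Spec.map_injective (hφ.symm.trans ?_)
    simp only [Spec.map_comp, Scheme.fromSpecResidueField, Category.assoc]
    rw [← Scheme.SpecMap_stalkMap_fromSpecStalk, Spec.fromSpecStalk_eq']
    rfl
  rw [hψ]
  have h1 : (StructureSheaf.toStalk (CommRingCat.of k) (f x)).hom.EssFiniteType :=
    Algebra.EssFiniteType.of_isLocalization _ (f x).asIdeal.primeCompl
  have h3 : (X.residue x).hom.EssFiniteType :=
    (RingHom.FiniteType.of_surjective _ (X.residue_surjective x)).essFiniteType
  exact (h1.comp (LocallyOfFiniteType.stalkMap f x)).comp h3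

theorem universallyInjective_SpecMap (k' : Type u) [Field k'] [Algebra k k'] [IsPurelyInseparable k k'] :
    UniversallyInjective (Spec.map (CommRingCat.ofHom (algebraMap k k'))) := by
  refine ((tfae_universallyInjective _).out 0 1).mpr ?_
  intro K hK g₁ g₂ h
  let _ : Field K := hK
  obtain ⟨a, rfl⟩ := Spec.map_surjective g₁
  obtain ⟨b, rfl⟩ := Spec.map_surjective g₂
  simp only [← Spec.map_comp] at h
  have h' := congrArg CommRingCat.Hom.hom (Spec.map_injective h)
  congr 1
  ext1
  exact IsPurelyInseparable.injective_comp_algebraMap k k' K h'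

theorem exists_geomReduced_nilradical_subscheme {X : Scheme.{u}} (f : X ⟶ Spec (CommRingCat.of k))
    [LocallyOfFiniteType f] (hirr : (irreducibleComponents (X : Type u)).Finite) :
    ∃ (k' : Type u) (_ : Field k') (_ : Algebra k k'), FiniteDimensional k k' ∧ IsPurelyInseparable k k' ∧
      GeometricallyReduced ((pullback f (Spec.map (CommRingCat.ofHom (algebraMap k k')))).nilradical.subschemeι ≫
        pullback.snd f (Spec.map (CommRingCat.ofHom (algebraMap k k')))) := by
  let ι : Type u := {η : X // ∀ y : X, y ⤳ η → η ⤳ y}
  have : Finite ι := by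
    have := hirr.to_subtype
    refine Finite.of_injective (fun η : ι => (⟨closure {η.1}, ⟨isIrreducible_singleton.closure, fun Z hZ hle => ?_⟩⟩ :
      irreducibleComponents (X : Type u))) fun a b hab => ?_
    · have hz := hZ.isGenericPoint_genericPoint_closure
      have h1 : hZ.genericPoint ⤳ η.1 := hz.specializes (subset_closure (hle (subset_closure rfl)))
      intro y hy
      exact ((η.2 _ h1).trans (hz.specializes (subset_closure hy))).mem_closure
    · exact Subtype.ext ((inseparable_iff_closure_eq.2 (congrArg Subtype.val hab)).eq)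
  let φ : ∀ η : ι, CommRingCat.of k ⟶ X.residueField η.1 :=
    fun η => Spec.preimage (X.fromSpecResidueField η.1 ≫ f)
  have hφ : ∀ η : ι, X.fromSpecResidueField η.1 ≫ f = Spec.map (φ η) := fun η => (Spec.map_preimage _).symm
  let _ : ∀ η : ι, Algebra k (X.residueField η.1) := fun η => (φ η).hom.toAlgebra
  have : ∀ η : ι, Algebra.EssFiniteType k (X.residueField η.1) :=
    fun η => essFiniteType_residueField f η.1 (φ η) (hφ η)
  obtain ⟨k', i1, i2, hfin, hpi, hK⟩ := exists_geomReduced_family (k := k) (fun η : ι => (X.residueField η.1 : Type u))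
  refine ⟨k', i1, i2, hfin, hpi, ?_⟩
  let gk := Spec.map (CommRingCat.ofHom (algebraMap k k'))
  let Y := pullback f gk
  have := isReduced_nilradical_subscheme Y
  refine geometricallyReduced_of_generic _ fun t ht => ?_
  have : Flat gk := flat_SpecMap_field _
  have : UniversallyInjective gk := universallyInjective_SpecMap k'
  have hsurj : Function.Surjective Y.nilradical.subschemeι := by
    rw [← Set.range_eq_univ, Scheme.IdealSheafData.range_subschemeι, Scheme.support_nilradical]
    rfl
  let η0 : X := pullback.fst f gk (Y.nilradical.subschemeι t)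
  have hη : ∀ y : X, y ⤳ η0 → η0 ⤳ y := fun y hy => by
    obtain ⟨z, hz, rfl⟩ := Flat.generalizingMap (pullback.fst f gk) hy
    obtain ⟨s, rfl⟩ := hsurj z
    exact ((ht s (Y.nilradical.subschemeι.isEmbedding.isInducing.specializes_iff.1 hz)).map
      Y.nilradical.subschemeι.continuous).map (pullback.fst f gk).continuous
  let η : ι := ⟨η0, hη⟩
  let C := (k' ⊗[k] (X.residueField η.1 : Type u)) ⧸ nilradical (k' ⊗[k] (X.residueField η.1 : Type u))
  have hCred : _root_.IsReduced C := (Ideal.isRadical_iff_quotient_reduced _).1 (Ideal.radical_isRadical _)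
  have hCmax := isMaximal_nilradical (k := k) k' (X.residueField η.1 : Type u)
  let inR := CommRingCat.ofHom ((Ideal.Quotient.mk (nilradical (k' ⊗[k] (X.residueField η.1 : Type u)))).comp
    (Algebra.TensorProduct.includeRight : (X.residueField η.1 : Type u) →ₐ[k] _).toRingHom)
  let inL := CommRingCat.ofHom (algebraMap k' C)
  have hcond : φ η ≫ inR = CommRingCat.ofHom (algebraMap k k') ≫ inL := by
    ext c
    show Ideal.Quotient.mk _ ((Algebra.TensorProduct.includeRight : (X.residueField η.1 : Type u) →ₐ[k] _)
      (algebraMap k (X.residueField η.1 : Type u) c)) = algebraMap k' C (algebraMap k k' c)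
    rw [AlgHom.commutes, IsScalarTower.algebraMap_apply k k' (k' ⊗[k] (X.residueField η.1 : Type u))]
    rfl
  let j0 : Spec (CommRingCat.of C) ⟶ Y :=
    pullback.lift (Spec.map inR ≫ X.fromSpecResidueField η.1) (Spec.map inL) (by
      rw [Category.assoc, hφ, ← Spec.map_comp, ← Spec.map_comp, hcond])
  have : AlgebraicGeometry.IsReduced (Spec (CommRingCat.of C)) := (affine_isReduced_iff _).2 hCred
  let j := IsClosedImmersion.lift Y.nilradical.subschemeι j0
    ((Scheme.IdealSheafData.ker_subschemeι _).trans_le (nilradical_le_ker j0))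
  have hj : j ≫ Y.nilradical.subschemeι = j0 := IsClosedImmersion.lift_fac _ _ _
  let _ : Field C := Ideal.Quotient.field _
  let pt : ↥(Spec (CommRingCat.of C)) := IsLocalRing.closedPoint C
  have : UniversallyInjective (pullback.fst f gk) :=
    MorphismProperty.pullback_fst (P := @UniversallyInjective) f gk inferInstance
  have hpt : j pt = t := by
    refine Y.nilradical.subschemeι.isEmbedding.injective ((pullback.fst f gk).injective ?_)
    rw [← Scheme.Hom.comp_apply j, hj, ← Scheme.Hom.comp_apply, pullback.lift_fst, Scheme.Hom.comp_apply,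
      Scheme.fromSpecResidueField_apply]
  let a := Scheme.stalkClosedPointTo j
  let q := j (IsLocalRing.closedPoint C)
  have hq : q = t := hpt
  rw [← hq] at ht ⊢
  let gY := Y.nilradical.subschemeι ≫ pullback.snd f gk
  let _ := stalkAlg gY q
  rw [grAt_iff (stalkAlg_spec gY q)]
  have hfield : IsField (Y.nilradical.subscheme.presheaf.stalk q) := by
    refine isField_stalk_of_closure_mem_irreducibleComponents _ _ ⟨isIrreducible_singleton.closure, fun Z hZ hle => ?_⟩
    have hz := hZ.isGenericPoint_genericPoint_closure
    have h1 : hZ.genericPoint ⤳ q := hz.specializes (subset_closure (hle (subset_closure rfl)))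
    intro y hy
    exact ((ht _ h1).trans (hz.specializes (subset_closure hy))).mem_closure
  have hcomp : CommRingCat.ofHom (algebraMap k' (Y.nilradical.subscheme.presheaf.stalk q)) ≫ a =
      CommRingCat.ofHom (algebraMap k' C) := by
    refine Spec.map_injective ?_
    rw [Spec.map_comp, ← stalkAlg_spec gY q, ← Category.assoc, Scheme.Spec_stalkClosedPointTo_fromSpecStalk,
      ← Category.assoc, hj, pullback.lift_snd]
  let aA : Y.nilradical.subscheme.presheaf.stalk q →ₐ[k'] C :=
    { a.hom with commutes' := fun c => congrArg (fun h => h.hom c) hcomp }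
  let _ := hfield.toField
  have := hK η
  exact Algebra.IsGeometricallyReduced.of_injective aA (RingHom.injective a.hom)

end Groth.Agent.GeomRedAt
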