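import Groth.Agent.GeomRedAt.Basic
import Groth.Agent.PurelyInsepRed.Basic

/-!
Geometric reducedness at a point under change of the base field, and at generic points.
-/

universe u

open AlgebraicGeometry CategoryTheory Limits TensorProduct

namespace Groth.Agent.GeomRedAt

variable {k : Type u} [Field k] {X : Scheme.{u}} {f : X ⟶ Spec (CommRingCat.of k)}

/-- A reduced local ring over a perfect field is geometrically reduced. -/
theorem grAt_of_perfectField [PerfectField k] (x : X) [_root_.IsReduced (X.presheaf.stalk x)] : GRAt f x := by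
  letI := stalkAlg f x
  rw [grAt_iff (stalkAlg_spec f x), Algebra.isGeometricallyReduced_field_iff]
  exact PurelyInsepRed.isReduced_tensor_of_perfectField (k := k) (AlgebraicClosure k)

theorem flat_SpecMap_field {K L : Type u} [Field K] [Field L] (φ : CommRingCat.of K ⟶ CommRingCat.of L) :
    Flat (Spec.map φ) := by
  rw [Flat.SpecMap_iff]
  letI := φ.hom.toAlgebra
  exact (RingHom.flat_algebraMap_iff (R := K) (S := L)).2 inferInstance

/-- Geometric reducedness ascends to points of base changes. -/
theorem GRAt.bc {Ω : Type u} [Field Ω] [Algebra k Ω] {x : X} (h : GRAt f x)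
    (x' : ↥(pullback f (Spec.map (CommRingCat.ofHom (algebraMap k Ω)))))
    (hx' : pullback.fst f _ x' = x) :
    GRAt (pullback.snd f (Spec.map (CommRingCat.ofHom (algebraMap k Ω)))) x' := by
  intro L _ _ z hz
  let _ : Algebra k L := ((algebraMap Ω L).comp (algebraMap k Ω)).toAlgebra
  have e : Spec.map (CommRingCat.ofHom (algebraMap k L)) =
      Spec.map (CommRingCat.ofHom (algebraMap Ω L)) ≫ Spec.map (CommRingCat.ofHom (algebraMap k Ω)) := by
    rw [← Spec.map_comp]; rfl
  let c := (pullbackLeftPullbackSndIso f (Spec.map (CommRingCat.ofHom (algebraMap k Ω)))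
    (Spec.map (CommRingCat.ofHom (algebraMap Ω L)))) ≪≫ pullback.congrHom rfl e.symm
  have hfst : c.hom ≫ pullback.fst f (Spec.map (CommRingCat.ofHom (algebraMap k L))) =
      pullback.fst _ _ ≫ pullback.fst _ _ := by
    simp only [c, Iso.trans_hom, Category.assoc, pullback.congrHom_hom, pullback.lift_fst, Category.comp_id,
      pullbackLeftPullbackSndIso_hom_fst]
  have := h L (c.hom z) (by
    rw [← Scheme.Hom.comp_apply, hfst, Scheme.Hom.comp_apply, hz, hx'])
  have := isReduced_stalk_of_flat c.inv (c.hom z)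
  rwa [← Scheme.Hom.comp_apply, Iso.hom_inv_id] at this

/-- Geometric reducedness descends from any point of a base change. -/
theorem grAt_of_bc {Ω : Type u} [Field Ω] [Algebra k Ω] {x : X}
    (x' : ↥(pullback f (Spec.map (CommRingCat.ofHom (algebraMap k Ω)))))
    (hx' : pullback.fst f _ x' = x)
    (h : GRAt (pullback.snd f (Spec.map (CommRingCat.ofHom (algebraMap k Ω)))) x') : GRAt f x := by
  intro K _ _ y hy
  obtain ⟨z, hzy, hzx⟩ := Scheme.Pullback.exists_preimage_pullback
    (f := pullback.fst f (Spec.map (CommRingCat.ofHom (algebraMap k K))))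
    (g := pullback.fst f (Spec.map (CommRingCat.ofHom (algebraMap k Ω)))) y x' (hy.trans hx'.symm)
  let P := pullback (pullback.fst f (Spec.map (CommRingCat.ofHom (algebraMap k K))))
    (pullback.fst f (Spec.map (CommRingCat.ofHom (algebraMap k Ω))))
  let π : Spec (P.residueField z) ⟶ P := P.fromSpecResidueField z
  let φK : CommRingCat.of K ⟶ P.residueField z := Spec.preimage (π ≫ pullback.fst _ _ ≫ pullback.snd _ _)
  let φΩ : CommRingCat.of Ω ⟶ P.residueField z := Spec.preimage (π ≫ pullback.snd _ _ ≫ pullback.snd _ _)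
  let hK := Spec.map φK
  let hΩ := Spec.map φΩ
  have eK : π ≫ pullback.fst _ _ ≫ pullback.snd _ _ = hK := (Spec.map_preimage _).symm
  have eΩ : π ≫ pullback.snd _ _ ≫ pullback.snd _ _ = hΩ := (Spec.map_preimage _).symm
  have heq : hK ≫ Spec.map (CommRingCat.ofHom (algebraMap k K)) = hΩ ≫ Spec.map (CommRingCat.ofHom (algebraMap k Ω)) := by
    rw [← eK, ← eΩ, Category.assoc, Category.assoc, Category.assoc, Category.assoc, ← pullback.condition,
      ← pullback.condition, pullback.condition_assoc]
  let σK := pullback.lift (f := pullback.snd f (Spec.map (CommRingCat.ofHom (algebraMap k K)))) (g := hK)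
    (π ≫ pullback.fst _ _) (𝟙 _) (by rw [Category.assoc, Category.id_comp, eK])
  let σΩ := pullback.lift (f := pullback.snd f (Spec.map (CommRingCat.ofHom (algebraMap k Ω)))) (g := hΩ)
    (π ≫ pullback.snd _ _) (𝟙 _) (by rw [Category.assoc, Category.id_comp, eΩ])
  let c := pullbackLeftPullbackSndIso f (Spec.map (CommRingCat.ofHom (algebraMap k Ω))) hΩ ≪≫
    pullback.congrHom rfl heq.symm ≪≫ (pullbackLeftPullbackSndIso f (Spec.map (CommRingCat.ofHom (algebraMap k K))) hK).symm
  have hc : σΩ ≫ c.hom = σK := by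
    rw [← cancel_mono (pullbackLeftPullbackSndIso f (Spec.map (CommRingCat.ofHom (algebraMap k K))) hK).hom]
    simp only [c, σK, σΩ, Iso.trans_hom, Category.assoc, Iso.symm_hom, Iso.inv_hom_id, Category.comp_id,
      pullback.congrHom_hom]
    apply pullback.hom_ext
    · simp only [Category.assoc, pullback.lift_fst, pullback.lift_fst_assoc, pullbackLeftPullbackSndIso_hom_fst,
        pullbackLeftPullbackSndIso_hom_fst_assoc, Category.comp_id, pullback.map]
      rw [pullback.condition]
    · simp only [Category.assoc, pullback.lift_snd, pullback.lift_snd_assoc, pullbackLeftPullbackSndIso_hom_snd,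
        pullbackLeftPullbackSndIso_hom_snd_assoc, Category.comp_id, pullback.map]
  let pt : ↥(Spec (P.residueField z)) := IsLocalRing.closedPoint _
  letI : Algebra Ω (P.residueField z) := φΩ.hom.toAlgebra
  have hred := h (P.residueField z) (σΩ pt) (by
    rw [← Scheme.Hom.comp_apply]
    show (σΩ ≫ pullback.fst _ hΩ) pt = x'
    rw [pullback.lift_fst, Scheme.Hom.comp_apply, Scheme.fromSpecResidueField_apply, hzx])
  have : _root_.IsReduced ((pullback _ hK).presheaf.stalk (c.hom (σΩ pt))) :=
    @isReduced_stalk_of_flat _ _ c.hom _ (σΩ pt) hred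
  have : Flat hK := flat_SpecMap_field φK
  have := isReduced_stalk_of_flat (pullback.fst _ hK) (c.hom (σΩ pt))
  rwa [show pullback.fst _ hK (c.hom (σΩ pt)) = y by
    rw [← Scheme.Hom.comp_apply σΩ, hc, ← Scheme.Hom.comp_apply, pullback.lift_fst, Scheme.Hom.comp_apply,
      Scheme.fromSpecResidueField_apply, hzy]] at this

/-- A reduced ring is reduced after tensoring if it is so above its minimal primes. -/
theorem isReduced_tensor_of_minimalPrimes {A K : Type u} [CommRing A] [Algebra k A] [_root_.IsReduced A]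
    [CommRing K] [Algebra k K]
    (h : ∀ (q : Ideal (A ⊗[k] K)) [q.IsPrime], q.comap (algebraMap A (A ⊗[k] K)) ∈ minimalPrimes A →
      _root_.IsReduced (Localization.AtPrime q)) : _root_.IsReduced (A ⊗[k] K) := by
  classical
  refine ⟨fun ξ hξ => ?_⟩
  let b := Algebra.TensorProduct.basis A (Module.Free.chooseBasis k K)
  suffices ∀ i, b.repr ξ i = 0 from b.repr.map_eq_zero_iff.1 (Finsupp.ext this)
  intro i
  by_contra hne
  obtain ⟨p, hp, hip⟩ : ∃ p ∈ minimalPrimes A, b.repr ξ i ∉ p := by
    by_contra hall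
    push Not at hall
    refine hne (IsNilpotent.eq_zero ?_)
    rw [← mem_nilradical, nilradical_eq_sInf, Submodule.mem_sInf]
    intro (q : Ideal A) (hq : q.IsPrime)
    obtain ⟨p, hp, hpq⟩ := Ideal.exists_minimalPrimes_le (bot_le : (⊥ : Ideal A) ≤ q)
    exact hpq (hall p hp)
  have : p.IsPrime := hp.1.1
  let M := p.primeCompl.map (algebraMap A (A ⊗[k] K))
  let I : Ideal (A ⊗[k] K) := LinearMap.ker (LinearMap.mulRight (A ⊗[k] K) ξ)
  by_cases hI : Disjoint (I : Set (A ⊗[k] K)) M
  · obtain ⟨q, hq, hIq, hdisj⟩ := Ideal.exists_le_prime_disjoint I M hI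
    have hle : q.comap (algebraMap A (A ⊗[k] K)) ≤ p := fun a ha => by
      by_contra hap
      exact Set.disjoint_left.1 hdisj ha ⟨a, hap, rfl⟩
    have := h q (by
      rwa [le_antisymm hle (hp.2 ⟨inferInstance, bot_le⟩ hle)])
    have h0 : algebraMap (A ⊗[k] K) (Localization.AtPrime q) ξ = 0 := (hξ.map _).eq_zero
    obtain ⟨⟨s, hs⟩, hsξ⟩ := (IsLocalization.map_eq_zero_iff q.primeCompl _ ξ).1 h0
    exact hs (hIq hsξ)
  · obtain ⟨_, hI', ⟨a, ha, rfl⟩⟩ := Set.not_disjoint_iff.1 hI
    have h1 : a • ξ = 0 := by rw [Algebra.smul_def]; exact hI'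
    have h2 : a * b.repr ξ i = 0 := by
      rw [← smul_eq_mul, ← Finsupp.smul_apply, ← map_smul, h1, map_zero, Finsupp.zero_apply]
    exact (this.mem_or_mem (h2 ▸ p.zero_mem)).elim ha hip

theorem isGeometricallyReduced_of_stalks_minimal {x : X} [Algebra k (X.presheaf.stalk x)]
    (halg : X.fromSpecStalk x ≫ f = Spec.map (CommRingCat.ofHom (algebraMap k (X.presheaf.stalk x))))
    [_root_.IsReduced (X.presheaf.stalk x)]
    (h : ∀ η : X, η ⤳ x → (∀ η' : X, η' ⤳ η → η ⤳ η') → GRAt f η) :
    Algebra.IsGeometricallyReduced k (X.presheaf.stalk x) := by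
  rw [Algebra.isGeometricallyReduced_field_iff]
  have : _root_.IsReduced (X.presheaf.stalk x ⊗[k] AlgebraicClosure k) := by
    refine isReduced_tensor_of_minimalPrimes fun q _ hq =>
      isReduced_localization_of_stalk halg _ q fun x' hx' => ?_
    let p : ↥(Spec (X.presheaf.stalk x)) := ⟨q.comap (algebraMap (X.presheaf.stalk x) _), inferInstance⟩
    have hp : X.fromSpecStalk x p ⤳ x := by
      have := Set.mem_range_self (f := X.fromSpecStalk x) p
      rwa [Scheme.range_fromSpecStalk] at this
    refine h _ hp (fun η' hη' => ?_) _ x' hx'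
    obtain ⟨p', hp'⟩ : η' ∈ Set.range (X.fromSpecStalk x) := by
      rw [Scheme.range_fromSpecStalk]; exact hη'.trans hp
    have hs : p' ⤳ p := by
      rw [← (X.fromSpecStalk x).isEmbedding.isInducing.specializes_iff, hp']; exact hη'
    rw [← hp']
    refine ((PrimeSpectrum.le_iff_specializes _ _).1 ?_).map (X.fromSpecStalk x).continuous
    exact hq.2 ⟨p'.isPrime, bot_le⟩ ((PrimeSpectrum.le_iff_specializes p' p).2 hs)
  exact isReduced_of_injective (Algebra.TensorProduct.comm k (AlgebraicClosure k) (X.presheaf.stalk x))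
    (AlgEquiv.injective _)

variable (f) in
/-- A reduced scheme geometrically reduced at its generic points is geometrically reduced. -/
theorem geometricallyReduced_of_generic [AlgebraicGeometry.IsReduced X]
    (h : ∀ η : X, (∀ η' : X, η' ⤳ η → η ⤳ η') → GRAt f η) : GeometricallyReduced f := by
  refine (geometricallyReduced_iff_forall f).2 fun x => ?_
  letI := stalkAlg f x
  exact (grAt_iff (stalkAlg_spec f x)).2
    (isGeometricallyReduced_of_stalks_minimal (stalkAlg_spec f x) fun η _ hη => h η hη)

/-- The structure map of a `k`-scheme restricted to the spectrum of a local ring. -/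
theorem fromSpecStalk_comp (f : X ⟶ Spec (CommRingCat.of k)) (x : X) :
    X.fromSpecStalk x ≫ f = Spec.map (CommRingCat.ofHom ((X.presheaf.germ ⊤ x trivial).hom.comp
      ((f.appTop).hom.comp (Scheme.ΓSpecIso (CommRingCat.of k)).inv.hom))) := by
  have h : f = X.toSpecΓ ≫ Spec.map f.appTop ≫ Spec.map (Scheme.ΓSpecIso (CommRingCat.of k)).inv := by
    rw [← reassoc_of% Scheme.toSpecΓ_naturality, ← SpecMap_ΓSpecIso_hom, ← Spec.map_comp,
      Iso.inv_hom_id, Spec.map_id, Category.comp_id]
  conv_lhs => rw [h]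
  rw [← Category.assoc, Scheme.fromSpecStalk_toSpecΓ, ← Spec.map_comp, ← Spec.map_comp]
  rfl

end Groth.Agent.GeomRedAt
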