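import Groth.Agent.FlatDescent.Point
import Groth.Agent.EGA41Lib.Separable
import Groth.Agent.S9634

/-!
Geometric reducedness at a point: comparison with the local ring.
-/

universe u

open AlgebraicGeometry CategoryTheory Limits TensorProduct

namespace Groth.Agent.GeomRedAt

variable {k : Type u} [Field k] {X : Scheme.{u}}

/-- All local rings of all base changes over `x` are reduced. -/
def GRAt (f : X ⟶ Spec (CommRingCat.of k)) (x : X) : Prop :=
  ∀ (K : Type u) [Field K] [Algebra k K]
    (x' : ↥(pullback f (Spec.map (CommRingCat.ofHom (algebraMap k K))))),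
    pullback.fst f (Spec.map (CommRingCat.ofHom (algebraMap k K))) x' = x →
      _root_.IsReduced ((pullback f (Spec.map (CommRingCat.ofHom (algebraMap k K)))).presheaf.stalk x')

/-- Reduced local rings descend along flat morphisms. -/
theorem isReduced_stalk_of_flat {W Z : Scheme.{u}} (j : W ⟶ Z) [Flat j] (w : W)
    [_root_.IsReduced (W.presheaf.stalk w)] : _root_.IsReduced (Z.presheaf.stalk (j w)) := by
  letI := (j.stalkMap w).hom.toAlgebra
  haveI : Module.Flat (Z.presheaf.stalk (j w)) (W.presheaf.stalk w) := Flat.stalkMap j w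
  haveI : IsLocalHom (algebraMap (Z.presheaf.stalk (j w)) (W.presheaf.stalk w)) := j.toLRSHom.prop w
  haveI : Module.FaithfullyFlat (Z.presheaf.stalk (j w)) (W.presheaf.stalk w) := .of_flat_of_isLocalHom
  exact isReduced_of_injective (algebraMap (Z.presheaf.stalk (j w)) (W.presheaf.stalk w))
    (FaithfulSMul.algebraMap_injective _ _)

/-- A reduced algebra-theoretic test at a point, transported to the scheme. -/
theorem isReduced_stalk_iff {W Z : Scheme.{u}} (j : W ⟶ Z) [Flat j] [IsPreimmersion j] (w : W) :
    _root_.IsReduced (W.presheaf.stalk w) ↔ _root_.IsReduced (Z.presheaf.stalk (j w)) :=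
  ⟨fun _ => isReduced_stalk_of_flat j w, fun _ => isReduced_of_injective
    (RingEquiv.ofBijective _ (Groth.FlatDescent.bijective_stalkMap j w)).symm (RingEquiv.injective _)⟩

section Loc

variable {Y S : Scheme.{u}} (f : X ⟶ S) (x : X) (g : Y ⟶ S)

/-- `Spec O_x ×_S Y`. -/
noncomputable abbrev loc : Scheme.{u} := pullback (X.fromSpecStalk x ≫ f) g

/-- The morphism `Spec O_x ×_S Y ⟶ X ×_S Y`. -/
noncomputable abbrev toBc : loc f x g ⟶ pullback f g :=
  pullback.lift (pullback.fst (X.fromSpecStalk x ≫ f) g ≫ X.fromSpecStalk x)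
    (pullback.snd (X.fromSpecStalk x ≫ f) g) (by rw [Category.assoc]; exact pullback.condition)

theorem isPullback_toBc :
    IsPullback (pullback.fst (X.fromSpecStalk x ≫ f) g) (toBc f x g) (X.fromSpecStalk x) (pullback.fst f g) := by
  refine IsPullback.of_bot ?_ (pullback.lift_fst _ _ _).symm (IsPullback.of_hasPullback f g)
  rw [toBc, pullback.lift_snd]
  exact IsPullback.of_hasPullback (X.fromSpecStalk x ≫ f) g

instance flat_toBc : Flat (toBc f x g) :=
  MorphismProperty.of_isPullback (P := @Flat) (isPullback_toBc f x g) (Groth.FlatDescent.flat_fromSpecStalk x)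

instance isPreimmersion_toBc : IsPreimmersion (toBc f x g) :=
  MorphismProperty.of_isPullback (P := @IsPreimmersion) (isPullback_toBc f x g) inferInstance

theorem exists_toBc_eq {z : ↥(pullback f g)} (hz : pullback.fst f g z ⤳ x) :
    ∃ w, toBc f x g w = z := by
  obtain ⟨a, ha⟩ : pullback.fst f g z ∈ Set.range (X.fromSpecStalk x) := by
    rw [Scheme.range_fromSpecStalk]; exact hz
  obtain ⟨w, -, hw⟩ := Scheme.exists_preimage_of_isPullback (isPullback_toBc f x g) a z ha
  exact ⟨w, hw⟩

/-- A reduced `Spec O_x ×_S Y` gives reduced local rings over generalisations of `x`. -/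
theorem isReduced_stalk_over [AlgebraicGeometry.IsReduced (loc f x g)] {z : ↥(pullback f g)}
    (hz : pullback.fst f g z ⤳ x) : _root_.IsReduced ((pullback f g).presheaf.stalk z) := by
  obtain ⟨w, rfl⟩ := exists_toBc_eq f x g hz
  exact isReduced_stalk_of_flat (toBc f x g) w

end Loc

/-- The algebra of the base field on a local ring. -/
@[reducible] noncomputable def stalkAlg (f : X ⟶ Spec (CommRingCat.of k)) (x : X) : Algebra k (X.presheaf.stalk x) :=
  (Spec.preimage (X.fromSpecStalk x ≫ f)).hom.toAlgebra

theorem stalkAlg_spec (f : X ⟶ Spec (CommRingCat.of k)) (x : X) :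
    X.fromSpecStalk x ≫ f =
      Spec.map (CommRingCat.ofHom (@algebraMap k (X.presheaf.stalk x) _ _ (stalkAlg f x))) :=
  (Spec.map_preimage _).symm

variable {f : X ⟶ Spec (CommRingCat.of k)} {x : X} [Algebra k (X.presheaf.stalk x)]
  (halg : X.fromSpecStalk x ≫ f = Spec.map (CommRingCat.ofHom (algebraMap k (X.presheaf.stalk x))))
  (K : Type u) [CommRing K] [Algebra k K]

/-- `Spec O_x ×_k Spec K` is the spectrum of the tensor product. -/
noncomputable def locIso :
    loc f x (Spec.map (CommRingCat.ofHom (algebraMap k K))) ≅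
      Spec (CommRingCat.of (X.presheaf.stalk x ⊗[k] K)) :=
  pullback.congrHom halg rfl ≪≫ pullbackSpecIso k (X.presheaf.stalk x) K

@[reassoc]
theorem locIso_hom_comp :
    (locIso halg K).hom ≫ Spec.map (CommRingCat.ofHom (algebraMap (X.presheaf.stalk x) (X.presheaf.stalk x ⊗[k] K))) =
      pullback.fst _ _ := by
  rw [locIso, Iso.trans_hom, Category.assoc, pullbackSpecIso_hom_fst', pullback.congrHom_hom, pullback.lift_fst,
    Category.comp_id]

include halg in
theorem isReduced_loc_iff :
    AlgebraicGeometry.IsReduced (loc f x (Spec.map (CommRingCat.ofHom (algebraMap k K)))) ↔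
      _root_.IsReduced (X.presheaf.stalk x ⊗[k] K) := by
  refine ⟨fun h => ?_, fun h => ?_⟩
  · have : AlgebraicGeometry.IsReduced (Spec (CommRingCat.of (X.presheaf.stalk x ⊗[k] K))) :=
      isReduced_of_isOpenImmersion (locIso halg K).inv
    exact (affine_isReduced_iff _).1 this
  · have : AlgebraicGeometry.IsReduced (Spec (CommRingCat.of (X.presheaf.stalk x ⊗[k] K))) :=
      (affine_isReduced_iff (CommRingCat.of (X.presheaf.stalk x ⊗[k] K))).2 h
    exact isReduced_of_isOpenImmersion (locIso halg K).hom

include halg in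
/-- Reduced local rings over `x` make the localised tensor product reduced at primes over the closed point. -/
theorem isReduced_localization_of_stalk (q : Ideal (X.presheaf.stalk x ⊗[k] K)) [q.IsPrime]
    (h : ∀ x' : ↥(pullback f (Spec.map (CommRingCat.ofHom (algebraMap k K)))),
      pullback.fst f _ x' = X.fromSpecStalk x ⟨q.comap (algebraMap (X.presheaf.stalk x) _), inferInstance⟩ →
        _root_.IsReduced ((pullback f (Spec.map (CommRingCat.ofHom (algebraMap k K)))).presheaf.stalk x')) :
    _root_.IsReduced (Localization.AtPrime q) := by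
  let s : ↥(Spec (CommRingCat.of (X.presheaf.stalk x ⊗[k] K))) := ⟨q, inferInstance⟩
  let w := (locIso halg K).inv s
  have hw : (pullback.fst (X.fromSpecStalk x ≫ f) (Spec.map (CommRingCat.ofHom (algebraMap k K)))) w =
      (⟨q.comap (algebraMap (X.presheaf.stalk x) _), inferInstance⟩ : PrimeSpectrum (X.presheaf.stalk x)) := by
    rw [← locIso_hom_comp halg K]
    show (Spec.map _) ((locIso halg K).hom ((locIso halg K).inv s)) = _
    rw [← Scheme.Hom.comp_apply (locIso halg K).inv, Iso.inv_hom_id]
    rfl
  have h1 := h (toBc f x _ w) (by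
    rw [← Scheme.Hom.comp_apply, (isPullback_toBc f x _).w.symm, Scheme.Hom.comp_apply, hw])
  have h2 := (isReduced_stalk_iff (toBc f x _) w).2 h1
  have h3 := isReduced_stalk_of_flat (locIso halg K).hom w
  rw [show (locIso halg K).hom w = s by
    show (locIso halg K).hom ((locIso halg K).inv s) = s
    rw [← Scheme.Hom.comp_apply, Iso.inv_hom_id]; rfl] at h3
  have hloc := StructureSheaf.IsLocalization.to_stalk (R := X.presheaf.stalk x ⊗[k] K) s
  let e := @IsLocalization.algEquiv _ _ q.primeCompl (Localization.AtPrime q) _ _ _ _ _ _ hloc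
  exact @isReduced_of_injective _ _ _ _ _ _ _ e e.injective h3

include halg in
/-- Over an integral test algebra, reduced local rings over `x` suffice. -/
theorem isReduced_tensor_of_stalks [Algebra.IsIntegral k K]
    (h : ∀ x' : ↥(pullback f (Spec.map (CommRingCat.ofHom (algebraMap k K)))), pullback.fst f _ x' = x →
        _root_.IsReduced ((pullback f (Spec.map (CommRingCat.ofHom (algebraMap k K)))).presheaf.stalk x')) :
    _root_.IsReduced (X.presheaf.stalk x ⊗[k] K) := by
  refine isReduced_ofLocalizationMaximal _ fun q hq => ?_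
  refine isReduced_localization_of_stalk halg K q fun x' hx' => h x' ?_
  have hm : (q.comap (algebraMap (X.presheaf.stalk x) (X.presheaf.stalk x ⊗[k] K))).IsMaximal :=
    Ideal.isMaximal_comap_of_isIntegral_of_isMaximal q
  refine hx'.trans (Eq.trans (congrArg (X.fromSpecStalk x) ?_) X.fromSpecStalk_closedPoint)
  exact PrimeSpectrum.ext (IsLocalRing.eq_maximalIdeal hm)

omit [Algebra k (X.presheaf.stalk x)] in
theorem grAt_of_specializes {y : X} (hy : y ⤳ x) (h : ∀ (K : Type u) [Field K] [Algebra k K],
    AlgebraicGeometry.IsReduced (loc f x (Spec.map (CommRingCat.ofHom (algebraMap k K))))) : GRAt f y := by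
  intro K _ _ x' hx'
  have := h K
  exact isReduced_stalk_over f x _ (hx' ▸ hy)

theorem isReduced_tensor_field [Algebra.IsGeometricallyReduced k (X.presheaf.stalk x)] (L : Type u) [Field L] [Algebra k L] :
    _root_.IsReduced (X.presheaf.stalk x ⊗[k] L) :=
  have h3 : ∀ (K : Type u) [Field K] [Algebra k K], _root_.IsReduced (K ⊗[k] X.presheaf.stalk x) :=
    ((S9634.result (k := k) (S := X.presheaf.stalk x)).out 1 2).mp ‹_›
  have := h3 L
  isReduced_of_injective (Algebra.TensorProduct.comm k (X.presheaf.stalk x) L) (AlgEquiv.injective _)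

include halg in
/-- Geometric reducedness at a point means geometric reducedness of the local ring. -/
theorem grAt_iff : GRAt f x ↔ Algebra.IsGeometricallyReduced k (X.presheaf.stalk x) := by
  refine ⟨fun h => ?_, fun h => grAt_of_specializes specializes_rfl fun L _ _ => ?_⟩
  · rw [Algebra.isGeometricallyReduced_field_iff]
    have := isReduced_tensor_of_stalks halg (AlgebraicClosure k) fun x' hx' => h _ x' hx'
    exact isReduced_of_injective (Algebra.TensorProduct.comm k (AlgebraicClosure k) (X.presheaf.stalk x))
      (AlgEquiv.injective _)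
  · exact (isReduced_loc_iff halg L).2 (isReduced_tensor_field L)

include halg in
/-- Finite purely inseparable extensions suffice. -/
theorem grAt_of_purelyInseparable
    (h : ∀ (k' : Type u) [Field k'] [Algebra k k'] [FiniteDimensional k k'] [IsPurelyInseparable k k']
      (x' : ↥(pullback f (Spec.map (CommRingCat.ofHom (algebraMap k k'))))),
      pullback.fst f _ x' = x →
        _root_.IsReduced ((pullback f (Spec.map (CommRingCat.ofHom (algebraMap k k')))).presheaf.stalk x')) :
    GRAt f x := by
  rw [grAt_iff halg]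
  have e : (∀ (k' : Type u) [Field k'] [Algebra k k'] [Module.Finite k k'] [IsPurelyInseparable k k'],
      _root_.IsReduced (k' ⊗[k] X.presheaf.stalk x)) ↔ Algebra.IsGeometricallyReduced k (X.presheaf.stalk x) :=
    (S9634.result (k := k) (S := X.presheaf.stalk x)).out 0 1
  refine e.1 ?_
  intro k' _ _ _ _
  have : Algebra.IsIntegral k k' := Algebra.IsIntegral.of_finite k k'
  have := isReduced_tensor_of_stalks halg k' fun x' hx' => h k' x' hx'
  exact isReduced_of_injective (Algebra.TensorProduct.comm k k' (X.presheaf.stalk x)) (AlgEquiv.injective _)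

omit [Algebra k (X.presheaf.stalk x)] in
theorem grAt_mono {y : X} (hy : y ⤳ x) (h : GRAt f x) : GRAt f y := by
  letI := stalkAlg f x
  have := (grAt_iff (stalkAlg_spec f x)).1 h
  exact grAt_of_specializes hy fun L _ _ =>
    (isReduced_loc_iff (stalkAlg_spec f x) L).2 (isReduced_tensor_field L)

variable (f) in
omit [Algebra k (X.presheaf.stalk x)] in
theorem geometricallyReduced_iff_forall : GeometricallyReduced f ↔ ∀ y : X, GRAt f y := by
  rw [AlgebraicGeometry.geometricallyReduced_iff, geometrically_iff_of_commRing]
  refine ⟨fun h y K _ _ x' _ => ?_, fun h K _ _ Y fst snd hY => ?_⟩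
  · have := h _ _ (IsPullback.of_hasPullback f (Spec.map (CommRingCat.ofHom (algebraMap k K))))
    infer_instance
  · have : ∀ x' : ↥(pullback f (Spec.map (CommRingCat.ofHom (algebraMap k K)))), _root_.IsReduced
        ((pullback f (Spec.map (CommRingCat.ofHom (algebraMap k K)))).presheaf.stalk x') :=
      fun x' => h _ K x' rfl
    have := isReduced_of_isReduced_stalk (X := pullback f (Spec.map (CommRingCat.ofHom (algebraMap k K))))
    exact isReduced_of_isOpenImmersion hY.isoPullback.hom

end Groth.Agent.GeomRedAt
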