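import Groth.Agent.GeomRedAt.Basic

/-!
Geometric reducedness detected by the Frobenius twist.
-/

universe u

open AlgebraicGeometry CategoryTheory Limits TensorProduct

namespace Groth.Agent.GeomRedAt

/-- The base field, as an algebra over itself by the Frobenius map. -/
def FrobField (k : Type u) (_p : ℕ) : Type u := k

instance (k : Type u) (p : ℕ) [Field k] : Field (FrobField k p) := inferInstanceAs (Field k)

variable (k : Type u) [Field k] (p : ℕ) [Fact p.Prime] [CharP k p]

noncomputable instance frobAlgebra : Algebra k (FrobField k p) := (frobenius k p).toAlgebra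

theorem frobAlgebra_algebraMap (a : k) : algebraMap k (FrobField k p) a = (show FrobField k p from a) ^ p := rfl

instance : Algebra.IsIntegral k (FrobField k p) where
  isIntegral b := by
    refine IsIntegral.of_pow (Fact.out : p.Prime).pos ?_
    rw [show b ^ p = algebraMap k (FrobField k p) (show k from b) from rfl]
    exact isIntegral_algebraMap

theorem frobLI_of_isReduced_twist {A : Type u} [CommRing A] [Algebra k A] [Nontrivial A]
    [_root_.IsReduced (A ⊗[k] FrobField k p)] : EGA41Lib.FrobLI p k A := by
  classical
  intro ι c hc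
  rw [linearIndependent_iff']
  intro s g hg i hi
  let ψ : k → FrobField k p := fun a => a
  set ξ : A ⊗[k] FrobField k p := ∑ j ∈ s, c j ⊗ₜ[k] ψ (g j)
  have : ExpChar k p := ExpChar.prime Fact.out
  have : Nontrivial (A ⊗[k] FrobField k p) :=
    (Algebra.TensorProduct.includeLeft_injective (S := k) (A := A) (B := FrobField k p)
      (algebraMap k (FrobField k p)).injective).nontrivial
  have : ExpChar (A ⊗[k] FrobField k p) p :=
    expChar_of_injective_algebraMap (algebraMap k (A ⊗[k] FrobField k p)).injective p
  have hpow : ξ ^ p = 0 := by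
    rw [sum_pow_char]
    refine Eq.trans (Finset.sum_congr rfl fun j _ => ?_)
      ((TensorProduct.sum_tmul s (fun j => g j • c j ^ p) (1 : FrobField k p)).symm.trans
        (by rw [hg, TensorProduct.zero_tmul]))
    rw [Algebra.TensorProduct.tmul_pow, TensorProduct.smul_tmul, Algebra.smul_def, mul_one]
    rfl
  have hξ : ξ = 0 := IsNilpotent.eq_zero ⟨p, hpow⟩
  refine (Module.forall_dual_apply_eq_zero_iff k (ψ (g i))).1 fun l => ?_
  have h1 := congrArg ((TensorProduct.rid k A).toLinearMap ∘ₗ LinearMap.lTensor A l) hξ
  simp only [ξ, map_sum, map_zero, LinearMap.comp_apply, LinearMap.lTensor_tmul, LinearEquiv.coe_coe,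
    TensorProduct.rid_tmul] at h1
  exact linearIndependent_iff'.1 hc s (fun j => l (ψ (g j))) h1 i hi

theorem geometricallyReduced_of_twist {X : Scheme.{u}} {f : X ⟶ Spec (CommRingCat.of k)}
    [AlgebraicGeometry.IsReduced (pullback f (Spec.map (CommRingCat.ofHom (algebraMap k (FrobField k p)))))] :
    GeometricallyReduced f := by
  refine (geometricallyReduced_iff_forall f).2 fun x => ?_
  letI := stalkAlg f x
  refine (grAt_iff (stalkAlg_spec f x)).2 ?_
  have := isReduced_tensor_of_stalks (stalkAlg_spec f x) (FrobField k p) fun _ _ => inferInstance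
  exact EGA41Lib.FrobLI.isGeometricallyReduced (frobLI_of_isReduced_twist k p)

end Groth.Agent.GeomRedAt
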